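import Groth.Agent.Lib.FlatOff.FibSk

/-!
# Modules free off `V(J)` on a local ring of depth at least two along `J`
-/

set_option autoImplicit false
set_option linter.style.haveILetI false
universe u

open Function IsLocalRing GrothLib.FlatOff

namespace GrothLib.FlatOffHens1

/-- Torsion free and free off `V(J)` with `depth_J ≥ 2` on a local ring: zero or faithful (the complement of `V(J)` is connected). -/
theorem subsingleton_or_annihilator_eq_bot {X : Type u} [CommRing X] [IsLocalRing X] [IsNoetherianRing X]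
    {K : Type u} [AddCommGroup K] [Module X K] [Module.Finite X K] (J : Ideal X)
    (hX : 2 ≤ LocCoh.idealDepth J X) (hTF : TF J K)
    (hfree : ∀ Q : Ideal X, Q.IsPrime → ¬ J ≤ Q → ∃ (k : ℕ) (α : K →ₗ[X] (Fin k → X)) (β : (Fin k → X) →ₗ[X] K)
      (s : X), s ∉ Q ∧ ∀ x, β (α x) = s • x) :
    Subsingleton K ∨ Module.annihilator X K = ⊥ := by
  classical
  let 𝔞 := Module.annihilator X K
  let 𝔟 := Submodule.annihilator (𝔞 : Submodule X X)
  have hab : ∀ a ∈ 𝔞, ∀ b ∈ 𝔟, b * a = 0 := fun a ha b hb => Submodule.mem_annihilator.1 hb a ha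
  have hrad : J ≤ (𝔞 ⊔ 𝔟).radical := by
    intro a haJ
    rw [Ideal.radical_eq_sInf, Submodule.mem_sInf]
    rintro Q ⟨hle, hQ⟩
    by_contra haQ
    haveI := hQ
    obtain ⟨k, α, β, s, hs, hαβ⟩ := hfree Q hQ fun h => haQ (h haJ)
    haveI := GrothLib.FreeOff.free_localized_of_factor Q ⟨s, hs⟩ α β hαβ
    have hsupp : (⟨Q, hQ⟩ : PrimeSpectrum X) ∈ Module.support X K :=
      Module.mem_support_iff_of_finite.2 (le_sup_left.trans hle)
    obtain ⟨G, hG⟩ := IsNoetherian.noetherian (𝔞 : Submodule X X)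
    choose w hw hw0 using fun g : G =>
      exists_mul_eq_zero_of_free Q hsupp (show (g : X) ∈ 𝔞 from hG ▸ Submodule.subset_span g.2)
    have hmem : ∏ g, w g ∈ 𝔟 := by
      refine Submodule.mem_annihilator.2 fun c hc => ?_
      rw [← hG] at hc
      induction hc using Submodule.span_induction with
      | mem c hc =>
        obtain ⟨e, he⟩ := Finset.dvd_prod_of_mem w (Finset.mem_univ (⟨c, hc⟩ : G))
        rw [he, smul_eq_mul, mul_comm (w _) e, mul_assoc, hw0 ⟨c, hc⟩, mul_zero]
      | zero => rw [smul_zero]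
      | add u v _ _ hu hv => rw [smul_add, hu, hv, add_zero]
      | smul r u _ hu => rw [smul_comm, hu, smul_zero]
    obtain ⟨g, -, hg⟩ := Ideal.IsPrime.prod_mem_iff.1 (le_sup_right.trans hle hmem)
    exact hw g hg
  by_cases hJ : J • (⊤ : Submodule X X) = ⊤
  · rw [smul_eq_mul, Ideal.mul_top] at hJ
    have htop : 𝔞 ⊔ 𝔟 = ⊤ := Ideal.radical_eq_top.1 (top_le_iff.1 (hJ.ge.trans hrad))
    by_cases ha : 𝔞 = ⊤
    · left
      refine ⟨fun u v => ?_⟩
      have h1 : (1 : X) ∈ 𝔞 := ha ▸ Submodule.mem_top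
      have h := Module.mem_annihilator.1 h1
      rw [← one_smul X u, ← one_smul X v, h, h]
    · have hb : 𝔟 = ⊤ := by
        by_contra hb
        exact (maximalIdeal.isMaximal X).ne_top
          (top_le_iff.1 (htop.ge.trans (sup_le (le_maximalIdeal ha) (le_maximalIdeal hb))))
      refine Or.inr (eq_bot_iff.2 fun a ha => ?_)
      rw [Submodule.mem_bot, ← one_mul a]
      exact hab a ha 1 (hb ▸ Submodule.mem_top)
  obtain ⟨rs, hlen, hmem, hreg⟩ := (GrothLib.Depth.le_idealDepth_iff_exists J hJ 2).1 (by exact_mod_cast hX)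
  obtain ⟨x, y, rfl⟩ := List.length_eq_two.1 hlen
  obtain ⟨hx, hy⟩ := (RingTheory.Sequence.isWeaklyRegular_cons_iff X x [y]).1 hreg
  have hy' : IsSMulRegular (QuotSMulTop x X) y := ((RingTheory.Sequence.isWeaklyRegular_cons_iff _ y []).1 hy).1
  obtain ⟨n, hn⟩ := hrad (hmem x (by simp))
  obtain ⟨m, hm⟩ := hrad (hmem y (by simp))
  obtain ⟨α, hα, β, hβ, hαβ⟩ := Submodule.mem_sup.1 hn
  obtain ⟨α', hα', β', hβ', hαβ'⟩ := Submodule.mem_sup.1 hm
  have hdvd1 : ∀ a, x ∣ y ^ m * a → x ∣ a := fun a ⟨t, ht⟩ => by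
    have h1 : (y ^ m) • (Submodule.Quotient.mk a : QuotSMulTop x X) = 0 := by
      refine (Submodule.Quotient.mk_smul _ _ _).symm.trans ((Submodule.Quotient.mk_eq_zero _).2 ?_)
      exact (Submodule.mem_smul_pointwise_iff_exists _ _ _).2 ⟨t, trivial, by simp [smul_eq_mul, ht]⟩
    obtain ⟨c, -, hc⟩ := (Submodule.mem_smul_pointwise_iff_exists _ _ _).1
      ((Submodule.Quotient.mk_eq_zero _).1 ((hy'.pow m).right_eq_zero_of_smul h1))
    exact ⟨c, hc.symm⟩
  have hdvd : ∀ k a, x ^ k ∣ y ^ m * a → x ^ k ∣ a := by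
    intro k
    induction k with
    | zero => intro a _; simp
    | succ k ih =>
      intro a ⟨t, ht⟩
      obtain ⟨a₁, rfl⟩ := hdvd1 a ⟨x ^ k * t, by rw [ht]; ring⟩
      obtain ⟨c, rfl⟩ := ih a₁ ⟨t, hx (show x • (y ^ m * a₁) = x • (x ^ k * t) by
        simp only [smul_eq_mul]
        calc x * (y ^ m * a₁) = y ^ m * (x * a₁) := by ring
          _ = x ^ (k + 1) * t := ht
          _ = x * (x ^ k * t) := by ring)⟩
      exact ⟨c, by ring⟩
  have hcross : y ^ m * α = x ^ n * α' := by
    rw [← hαβ, ← hαβ']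
    linear_combination hab α hα β' hβ' - hab α' hα' β hβ
  obtain ⟨c, hc⟩ := hdvd n α ⟨α', hcross⟩
  have hidem : c * c = c := by
    refine ((hx.pow n).pow 2) ?_
    show (x ^ n) ^ 2 • (c * c) = (x ^ n) ^ 2 • c
    rw [smul_eq_mul, smul_eq_mul]
    have h0 := hab α hα β hβ
    rw [show β = x ^ n - α by rw [← hαβ]; ring, hc] at h0
    linear_combination -h0
  rcases IsLocalRing.isUnit_or_isUnit_one_sub_self c with hu | hu
  · have hc1 : c = 1 := (hu.mul_left_cancel (hidem.trans (mul_one c).symm))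
    left
    have hxa : x ^ n ∈ 𝔞 := by rw [hc1, mul_one] at hc; rw [← hc]; exact hα
    have hb0 : ∀ b ∈ 𝔟, b = 0 := fun b hb => (hx.pow n) (by
      show x ^ n • b = x ^ n • (0 : X)
      rw [smul_zero, smul_eq_mul, mul_comm]
      exact hab _ hxa b hb)
    have hJa : J ≤ 𝔞.radical := hrad.trans (Ideal.radical_mono (sup_le le_rfl fun b hb => by
      rw [hb0 b hb]; exact zero_mem _))
    refine ⟨fun u v => ?_⟩
    have h0 : ∀ z : K, z = 0 := fun z => hTF z fun a ha => by
      obtain ⟨k, hk⟩ := hJa ha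
      exact ⟨k, Module.mem_annihilator.1 hk z⟩
    rw [h0 u, h0 v]
  · have hc0 : c = 0 := hu.mul_left_cancel (by rw [mul_zero, sub_mul, one_mul, hidem, sub_self])
    right
    rw [hc0, mul_zero] at hc
    rw [hc, zero_add] at hαβ
    refine eq_bot_iff.2 fun a ha => ?_
    rw [Submodule.mem_bot]
    exact (hx.pow n) (show x ^ n • a = x ^ n • (0 : X) by
      rw [smul_zero, smul_eq_mul, ← hαβ]
      exact hab a ha β hβ)

/-- `(S₂)` of the fibre gives depth `≥ 2` along `J`. -/
theorem two_le_depth_of_hasSk {X : Type u} [CommRing X] [IsLocalRing X] [IsNoetherianRing X] (I : Ideal X)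
    {K : Type u} [AddCommGroup K] [Module X K] [Module.Finite X K] (J : Ideal X)
    (hX : 2 ≤ LocCoh.idealDepth J X) (hTF : TF J K)
    (hfree : ∀ Q : Ideal X, Q.IsPrime → ¬ J ≤ Q → ∃ (k : ℕ) (α : K →ₗ[X] (Fin k → X)) (β : (Fin k → X) →ₗ[X] K)
      (s : X), s ∉ Q ∧ ∀ x, β (α x) = s • x)
    (hD : 2 ≤ LocCoh.idealDepth (J.map (Ideal.Quotient.mk I)) (X ⧸ I))
    (hSk : LocCoh.HasSk 2 (X ⧸ I) (K ⧸ (I • ⊤ : Submodule X K))) :
    2 ≤ LocCoh.idealDepth (J.map (Ideal.Quotient.mk I)) (K ⧸ (I • ⊤ : Submodule X K)) := by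
  let D := X ⧸ I
  let M := K ⧸ (I • ⊤ : Submodule X K)
  haveI : Module.Finite D M := Module.Finite.of_restrictScalars_finite X D M
  rcases subsingleton_or_annihilator_eq_bot J hX hTF hfree with hsub | hfaith
  · haveI : Subsingleton M := (Submodule.mkQ_surjective (I • ⊤ : Submodule X K)).subsingleton
    rw [LocCoh.idealDepth, if_pos (eq_top_iff.2 fun z _ => by rw [Subsingleton.elim z 0]; exact zero_mem _)]
    exact le_top
  by_contra hlt
  obtain ⟨d, hd, hd2⟩ : ∃ d : ℕ, LocCoh.idealDepth (J.map (Ideal.Quotient.mk I)) M = d ∧ d < 2 := by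
    cases hd : LocCoh.idealDepth (J.map (Ideal.Quotient.mk I)) M using ENat.recTopCoe with
    | top => exact absurd (hd ▸ le_top) hlt
    | coe d => exact ⟨d, rfl, by
        by_contra hc
        exact hlt (hd ▸ (by exact_mod_cast not_lt.1 hc))⟩
  obtain ⟨P, hP, hle⟩ := GrothLib.Depth.exists_depth_localization_le _ d hd
  let DP := Localization.AtPrime P.asIdeal
  let MP := LocalizedModule P.asIdeal.primeCompl M
  haveI : IsNoetherianRing DP := IsLocalization.isNoetherianRing P.asIdeal.primeCompl _ inferInstance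
  haveI : Module.Finite DP MP :=
    Module.Finite.of_isLocalizedModule P.asIdeal.primeCompl (LocalizedModule.mkLinearMap P.asIdeal.primeCompl M)
  have hlt2 : LocCoh.depth DP MP < 2 := lt_of_le_of_lt hle (by exact_mod_cast hd2)
  have hsupp : Module.annihilator DP MP ≤ nilradical DP := by
    intro z hz
    rw [nilradical_eq_sInf, Submodule.mem_sInf]
    intro R hR
    replace hR : Ideal.IsPrime (R : Ideal DP) := hR
    haveI := hR
    haveI : (Ideal.comap (algebraMap D DP) R).IsPrime := Ideal.comap_isPrime (algebraMap D DP) R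
    obtain ⟨c, t, rfl⟩ := IsLocalization.exists_mk'_eq P.asIdeal.primeCompl z
    let R₀ : Ideal D := Ideal.comap (algebraMap D DP) R
    have hR₀ : (⟨R₀, Ideal.comap_isPrime _ _⟩ : PrimeSpectrum D) ∈ Module.support D M := by
      refine Module.mem_support_iff_of_finite.2 fun a ha => ?_
      obtain ⟨a, rfl⟩ := Ideal.Quotient.mk_surjective a
      have hXsupp : (⟨R₀.comap (Ideal.Quotient.mk I), Ideal.comap_isPrime _ _⟩ : PrimeSpectrum X) ∈
          Module.support X M := by
        rw [Module.support_quotient]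
        refine ⟨Module.mem_support_iff_of_finite.2 (hfaith.le.trans bot_le), fun i hi => ?_⟩
        show Ideal.Quotient.mk I i ∈ R₀
        rw [Ideal.Quotient.eq_zero_iff_mem.2 hi]
        exact zero_mem _
      exact Ideal.mem_comap.1 (Module.mem_support_iff_of_finite.1 hXsupp
        (Module.mem_annihilator.2 fun m => Module.mem_annihilator.1 ha m))
    obtain ⟨m, hm⟩ := Module.mem_support_iff_exists_annihilator.1 hR₀
    have h1 := Module.mem_annihilator.1 hz (LocalizedModule.mkLinearMap P.asIdeal.primeCompl M m)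
    have h2 : algebraMap D DP c • LocalizedModule.mkLinearMap P.asIdeal.primeCompl M m = 0 := by
      rw [← IsLocalization.mk'_spec DP c t, mul_comm, mul_smul, h1, smul_zero]
    rw [algebraMap_smul, ← map_smul] at h2
    obtain ⟨u, hu⟩ := (IsLocalizedModule.eq_zero_iff P.asIdeal.primeCompl
      (LocalizedModule.mkLinearMap P.asIdeal.primeCompl M)).1 h2
    have huR : (u : D) ∉ R₀ := fun h =>
      hR.ne_top (Ideal.eq_top_of_isUnit_mem _ h (IsLocalization.map_units DP u))
    have huc : (u : D) * c ∈ R₀ := hm ((Submodule.mem_annihilator_span_singleton m _).2 (by rw [mul_smul]; exact hu))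
    rw [IsLocalization.mk'_eq_mul_mk'_one]
    exact Ideal.mul_mem_right _ R ((Ideal.IsPrime.mem_or_mem (Ideal.comap_isPrime _ _) huc).resolve_left huR)
  have hdim : Module.supportDim DP MP = ringKrullDim DP := by
    rw [Module.supportDim_eq_ringKrullDim_quotient_annihilator]
    have huniv : PrimeSpectrum.zeroLocus (Module.annihilator DP MP : Set DP) = Set.univ :=
      Set.eq_univ_of_forall fun q => hsupp.trans (nilradical_le_prime q.asIdeal)
    rw [ringKrullDim_quotient, huniv]
    exact Order.krullDim_eq_of_orderIso OrderIso.Set.univ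
  have hDP : 2 ≤ LocCoh.depth DP DP := by
    refine (hD.trans (GrothLib.Depth.idealDepth_le_localization (M := D) _ P.asIdeal hP)).trans (le_of_eq ?_)
    haveI : Module.Finite DP (LocalizedModule P.asIdeal.primeCompl D) :=
      Module.Finite.of_isLocalizedModule P.asIdeal.primeCompl (LocalizedModule.mkLinearMap P.asIdeal.primeCompl D)
    exact GrothLib.Depth.idealDepth_eq_of_equiv _
      ((LocalizedModule.equivTensorProduct P.asIdeal.primeCompl D).trans (TensorProduct.AlgebraTensorModule.rid D DP DP))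
  have h2 : ((2 : ℕ∞) : WithBot ℕ∞) ≤ Module.supportDim DP MP :=
    hdim ▸ (WithBot.coe_le_coe.2 hDP).trans (GrothLib.CMFree.depth_le_ringKrullDim DP)
  have := hSk P.asIdeal
  rw [min_eq_left (show ((2 : ℕ) : WithBot ℕ∞) ≤ _ from h2)] at this
  exact absurd hlt2 (not_lt.2 (WithBot.coe_le_coe.1 this))

end GrothLib.FlatOffHens1
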