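import Groth.Agent.Lib.FlatOff.Infinitesimal
import Groth.Agent.Lib.FlatOff.InfinitesimalMain
import Groth.Agent.Lib.FibPd.GeomSk

/-!
# `(S_k)` of fibres under local base change
-/

set_option autoImplicit false
set_option linter.style.haveILetI false
universe u

open Function IsLocalRing GrothLib.FlatOff TensorProduct

namespace GrothLib.FlatOffHens1

/-- Over a field the fibre local ring is the localization. -/
theorem exists_fibLocRing_field_equiv {L B : Type u} [CommRing L] [CommRing B] [Algebra L B] (hL : IsField L)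
    (q : Ideal B) [q.IsPrime] : Nonempty (Localization.AtPrime q ≃+* EGA4.FibLocRing L B q) := by
  letI := hL.toField
  have hbot : (q.comap (algebraMap L B)).map (algebraMap L (Localization.AtPrime q)) = ⊥ := by
    rcases Ideal.eq_bot_or_top (q.comap (algebraMap L B)) with h0 | h0
    · rw [h0, Ideal.map_bot]
    · exact absurd h0 (Ideal.IsPrime.ne_top inferInstance)
  exact ⟨(RingEquiv.quotientBot _).symm.trans (Ideal.quotEquivOfEq hbot.symm)⟩

/-- The fibre local ring at a point over the closed point is a local ring of the closed fibre. -/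
theorem hasSk_fibLocRing_iff {R C : Type u} [CommRing R] [IsLocalRing R] [CommRing C] [IsNoetherianRing C] [Algebra R C]
    (n : Ideal C) [n.IsPrime] (hn : n.comap (algebraMap R C) = maximalIdeal R)
    (nb : Ideal (C ⧸ (maximalIdeal R).map (algebraMap R C))) [nb.IsPrime]
    (hnb : nb.comap (algebraMap C (C ⧸ (maximalIdeal R).map (algebraMap R C))) = n) (k : ℕ) :
    LocCoh.HasSk k (EGA4.FibLocRing R C n) (EGA4.FibLocRing R C n) ↔
      LocCoh.HasSk k (Localization.AtPrime nb) (Localization.AtPrime nb) := by
  obtain ⟨e, -⟩ := exists_fibLocRing_equiv (R := R) (A' := R ⧸ maximalIdeal R) (C := C)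
    (C' := C ⧸ (maximalIdeal R).map (algebraMap R C)) Ideal.Quotient.mk_surjective Ideal.Quotient.mk_surjective
    n nb hnb (by rw [Ideal.Quotient.algebraMap_eq, Ideal.mk_ker, hn])
  obtain ⟨e'⟩ := exists_fibLocRing_field_equiv (L := R ⧸ maximalIdeal R)
    ((Ideal.Quotient.maximal_ideal_iff_isField_quotient _).1 (maximalIdeal.isMaximal R)) nb
  haveI : IsNoetherianRing (Localization.AtPrime nb) := IsLocalization.isNoetherianRing nb.primeCompl _ inferInstance
  haveI : IsNoetherianRing (Localization.AtPrime n) := IsLocalization.isNoetherianRing n.primeCompl _ inferInstance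
  exact ⟨fun h => hasSk_congr (e.trans e'.symm) h, fun h => hasSk_congr (e'.trans e.symm) h⟩

attribute [local instance] Algebra.TensorProduct.rightAlgebra

/-- `(S_k)` of localizations passes through an isomorphism of rings. -/
theorem hasSk_localization_equiv {B B' : Type u} [CommRing B] [CommRing B'] [IsNoetherianRing B] (e : B ≃+* B')
    (q' : Ideal B') [q'.IsPrime] (k : ℕ)
    (h : LocCoh.HasSk k (Localization.AtPrime (q'.comap e.toRingHom)) (Localization.AtPrime (q'.comap e.toRingHom))) :
    LocCoh.HasSk k (Localization.AtPrime q') (Localization.AtPrime q') := by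
  haveI : IsNoetherianRing (Localization.AtPrime (q'.comap e.toRingHom)) :=
    IsLocalization.isNoetherianRing (q'.comap e.toRingHom).primeCompl _ inferInstance
  refine hasSk_congr (IsLocalization.ringEquivOfRingEquiv (M := (q'.comap e.toRingHom).primeCompl) (T := q'.primeCompl)
    (Localization.AtPrime (q'.comap e.toRingHom)) (Localization.AtPrime q') e ?_) h
  ext x
  constructor
  · rintro ⟨y, hy, rfl⟩
    exact hy
  · intro hx
    refine ⟨e.symm x, fun hm => hx ?_, e.apply_symm_apply x⟩
    have := Ideal.mem_comap.1 hm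
    rwa [RingEquiv.toRingHom_eq_coe, RingEquiv.coe_toRingHom, e.apply_symm_apply] at this

set_option maxHeartbeats 1600000 in
/-- `(S_k)` of a fibre is preserved by a local base change. -/
theorem hasSk_fib_baseChange {R C R' C' : Type u} [CommRing R] [IsLocalRing R] [CommRing C] [IsNoetherianRing C]
    [Algebra R C] [Algebra.FiniteType R C] [CommRing R'] [IsLocalRing R'] [CommRing C'] [IsNoetherianRing C']
    [Algebra R R'] [IsLocalHom (algebraMap R R')] [Algebra R' C'] [Algebra C C'] [Algebra R C'] [IsScalarTower R C C']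
    [IsScalarTower R R' C'] [Algebra.IsPushout R C R' C'] (k : ℕ) (n : Ideal C) [n.IsPrime]
    (hn : n.comap (algebraMap R C) = maximalIdeal R) (q : Ideal C') [q.IsPrime]
    (hqn : q.comap (algebraMap C C') = n) (hq : q.comap (algebraMap R' C') = maximalIdeal R')
    (hS : LocCoh.HasSk k (EGA4.FibLocRing R C n) (EGA4.FibLocRing R C n)) :
    LocCoh.HasSk k (EGA4.FibLocRing R' C' q) (EGA4.FibLocRing R' C' q) := by
  let m := maximalIdeal R
  let m' := maximalIdeal R'
  let κ := R ⧸ m
  let κ' := R' ⧸ m'
  let Cb := C ⧸ m.map (algebraMap R C)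
  let Cb' := C' ⧸ m'.map (algebraMap R' C')
  letI : Field κ := Ideal.Quotient.field m
  letI : Field κ' := Ideal.Quotient.field m'
  have hm : m ≤ m'.comap (algebraMap R R') := (IsLocalRing.maximalIdeal_comap (algebraMap R R')).ge
  have hmC : m.map (algebraMap R C) ≤ (m'.map (algebraMap R' C')).comap (algebraMap C C') := by
    rw [Ideal.map_le_iff_le_comap, Ideal.comap_comap, ← IsScalarTower.algebraMap_eq R C C',
      IsScalarTower.algebraMap_eq R R' C', ← Ideal.comap_comap]
    exact hm.trans (Ideal.comap_mono Ideal.le_comap_map)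
  letI : Algebra κ κ' := (Ideal.quotientMap m' (algebraMap R R') hm).toAlgebra
  letI : Algebra Cb Cb' := (Ideal.quotientMap _ (algebraMap C C') hmC).toAlgebra
  letI : Algebra κ Cb' := ((algebraMap κ' Cb').comp (algebraMap κ κ')).toAlgebra
  haveI : IsScalarTower κ κ' Cb' := IsScalarTower.of_algebraMap_eq fun _ => rfl
  haveI : IsScalarTower R κ κ' := IsScalarTower.of_algebraMap_eq fun r => rfl
  haveI : IsScalarTower R C' Cb' := inferInstance
  haveI : IsScalarTower R κ' Cb' := IsScalarTower.of_algebraMap_eq fun r => by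
    show Ideal.Quotient.mk _ (algebraMap R C' r) = Ideal.Quotient.mk _ (algebraMap R' C' (algebraMap R R' r))
    rw [← IsScalarTower.algebraMap_apply]
  haveI : IsScalarTower R C Cb' := IsScalarTower.of_algebraMap_eq fun r => by
    show Ideal.Quotient.mk _ (algebraMap R C' r) = Ideal.Quotient.mk _ (algebraMap C C' (algebraMap R C r))
    rw [← IsScalarTower.algebraMap_apply]
  haveI : IsScalarTower C Cb Cb' := IsScalarTower.of_algebraMap_eq fun c => rfl
  haveI : IsScalarTower R κ Cb' := IsScalarTower.of_algebraMap_eq fun r => by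
    show algebraMap R Cb' r = algebraMap κ' Cb' (algebraMap κ κ' (algebraMap R κ r))
    rw [← IsScalarTower.algebraMap_apply R κ κ', ← IsScalarTower.algebraMap_apply R κ' Cb']
  haveI : IsScalarTower κ Cb Cb' := IsScalarTower.of_algebraMap_eq fun a => by
    obtain ⟨r, rfl⟩ := Ideal.Quotient.mk_surjective a
    show algebraMap κ Cb' (algebraMap R κ r) = algebraMap Cb Cb' (algebraMap κ Cb (algebraMap R κ r))
    rw [← IsScalarTower.algebraMap_apply R κ Cb', ← IsScalarTower.algebraMap_apply R κ Cb,
      IsScalarTower.algebraMap_apply R C Cb, ← IsScalarTower.algebraMap_apply C Cb Cb',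
      ← IsScalarTower.algebraMap_apply R C Cb']
  haveI : IsScalarTower R Cb Cb' := IsScalarTower.of_algebraMap_eq fun r => by
    rw [IsScalarTower.algebraMap_apply R C Cb, ← IsScalarTower.algebraMap_apply C Cb Cb',
      ← IsScalarTower.algebraMap_apply R C Cb']
  haveI : Algebra.IsPushout R C κ Cb := isPushout_quot_map R C m
  haveI : Algebra.IsPushout R' C' κ' Cb' := isPushout_quot_map R' C' m'
  haveI : Algebra.IsPushout R R' C C' := Algebra.IsPushout.symm inferInstance
  haveI : Algebra.IsPushout R' κ' C' Cb' := Algebra.IsPushout.symm inferInstance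
  haveI : Algebra.IsPushout R κ C Cb := Algebra.IsPushout.symm inferInstance
  haveI : Algebra.IsPushout R κ' C Cb' :=
    (Algebra.IsPushout.comp_iff (R := R) (S := R') (R' := C) (S' := C') (T := κ') (T' := Cb')).2 inferInstance
  haveI : Algebra.IsPushout κ κ' Cb Cb' :=
    (Algebra.IsPushout.comp_iff (R := R) (S := κ) (R' := C) (S' := Cb) (T := κ') (T' := Cb')).1 inferInstance
  haveI : Algebra.IsPushout κ Cb κ' Cb' := Algebra.IsPushout.symm inferInstance
  haveI : Algebra.FiniteType R Cb := Algebra.FiniteType.trans (S := C) inferInstance inferInstance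
  haveI : Algebra.FiniteType κ Cb := Algebra.FiniteType.of_restrictScalars_finiteType R κ Cb
  have hsC : Surjective (algebraMap C' Cb') := Ideal.Quotient.mk_surjective
  let qb : Ideal Cb' := q.map (algebraMap C' Cb')
  haveI : qb.IsPrime := Ideal.map_isPrime_of_surjective hsC
    (by rw [Ideal.Quotient.algebraMap_eq, Ideal.mk_ker]; exact Ideal.map_le_iff_le_comap.2 hq.ge)
  have hqb : qb.comap (algebraMap C' Cb') = q := by
    rw [Ideal.comap_map_of_surjective _ hsC, ← RingHom.ker_eq_comap_bot, Ideal.Quotient.algebraMap_eq,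
      Ideal.mk_ker, sup_eq_left]
    exact Ideal.map_le_iff_le_comap.2 hq.ge
  let nb : Ideal Cb := qb.comap (algebraMap Cb Cb')
  have hnb : nb.comap (algebraMap C Cb) = n := by
    rw [Ideal.comap_comap, ← IsScalarTower.algebraMap_eq C Cb Cb',
      show algebraMap C Cb' = (algebraMap C' Cb').comp (algebraMap C C') from rfl, ← Ideal.comap_comap, hqb, hqn]
  rw [hasSk_fibLocRing_iff q hq qb hqb]
  rw [hasSk_fibLocRing_iff n hn nb hnb] at hS
  obtain ⟨A₀, _, _, _, _, _, _, hpush, hSk⟩ := GrothLib.FibPd.exists_pushout_hasSk κ κ' Cb k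
  haveI := hpush
  let e : A₀ ≃ₐ[Cb] Cb' := (Algebra.IsPushout.equiv κ Cb κ' A₀).symm.trans (Algebra.IsPushout.equiv κ Cb κ' Cb')
  haveI : Algebra.FiniteType κ' A₀ := by
    haveI : Algebra.IsPushout κ κ' Cb A₀ := Algebra.IsPushout.symm inferInstance
    exact Algebra.FiniteType.of_surjective (Algebra.IsPushout.equiv κ κ' Cb A₀).toAlgHom
      (Algebra.IsPushout.equiv κ κ' Cb A₀).surjective
  haveI : IsNoetherianRing A₀ := Algebra.FiniteType.isNoetherianRing κ' A₀
  refine hasSk_localization_equiv e.toRingEquiv qb k ?_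
  let q₀ : Ideal A₀ := qb.comap e.toRingEquiv.toRingHom
  have hq₀ : q₀.comap (algebraMap Cb A₀) = nb := Ideal.ext fun x => by
    show e (algebraMap Cb A₀ x) ∈ qb ↔ algebraMap Cb Cb' x ∈ qb
    rw [e.commutes]
  have key : ∀ (J : Ideal Cb) [J.IsPrime], J = nb → LocCoh.HasSk k (Localization.AtPrime J) (Localization.AtPrime J) := by
    rintro J _ rfl
    exact hS
  exact hSk q₀ (Localization.AtPrime (q₀.comap (algebraMap Cb A₀))) (Localization.AtPrime q₀) (key _ hq₀)

end GrothLib.FlatOffHens1
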