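import Groth.Agent.Lib.FlatOffHens1.CokerIff
import Groth.Agent.Lib.FlatOffHens1.FibSkBC
import Groth.Agent.Lib.FlatValCrit1.Base
import Groth.Agent.Lib.FlatAbove.Killed
import Groth.Agent.Lib.FlatOff.BasePullback

/-!
# Relative `(S₂)` of the double dual after local base change is flatness of the base changed cokernel
-/

set_option autoImplicit false
set_option linter.style.haveILetI false
universe u

open Function IsLocalRing GrothLib.FlatOff TensorProduct

namespace GrothLib.FlatOffHens1

attribute [local instance] Algebra.TensorProduct.rightAlgebra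

/-- Homotopies survive base change. -/
theorem exists_homotopy_baseChange {C C' : Type u} [CommRing C] [IsNoetherianRing C] [CommRing C'] [Algebra C C']
    {F : Type u} [AddCommGroup F] [Module C F] [Module.Finite C F] {N M : ℕ} (g : F →ₗ[C] (Fin N → C))
    (h : (Fin N → C) →ₗ[C] (Fin M → C)) (hg : Injective g) (hgh : Function.Exact g h) (J : Ideal C)
    (hGfree : ∀ q : PrimeSpectrum C, ¬ J ≤ q.asIdeal → Module.Free (Localization.AtPrime q.asIdeal)
      (LocalizedModule q.asIdeal.primeCompl ((Fin M → C) ⧸ LinearMap.range h)))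
    {ρ : ∀ k : ℕ, C' ⊗[C] (Fin k → C) ≃ₗ[C'] (Fin k → C')} (a' : C') (ha' : a' ∈ J.map (algebraMap C C')) :
    ∃ (k : ℕ) (t : (Fin N → C') →ₗ[C'] C' ⊗[C] F) (s : (Fin M → C') →ₗ[C'] (Fin N → C')),
      (∀ x, t ((ρ N).toLinearMap.comp (g.baseChange C') x) = a' ^ k • x) ∧
      ∀ y, (ρ N).toLinearMap.comp (g.baseChange C') (t y) +
        s ((((ρ M).toLinearMap.comp (h.baseChange C')).comp (ρ N).symm.toLinearMap) y) = a' ^ k • y := by
  let P : C' → Prop := fun c => ∃ (t : (Fin N → C') →ₗ[C'] C' ⊗[C] F) (s : (Fin M → C') →ₗ[C'] (Fin N → C')),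
      (∀ x, t ((ρ N).toLinearMap.comp (g.baseChange C') x) = c • x) ∧
      ∀ y, (ρ N).toLinearMap.comp (g.baseChange C') (t y) +
        s ((((ρ M).toLinearMap.comp (h.baseChange C')).comp (ρ N).symm.toLinearMap) y) = c • y
  let S : Ideal C' :=
    { carrier := {c | P c}
      zero_mem' := ⟨0, 0, fun x => by simp, fun y => by simp⟩
      add_mem' := by
        rintro a b ⟨t, s, h1, h2⟩ ⟨t', s', h1', h2'⟩
        refine ⟨t + t', s + s', fun x => by rw [LinearMap.add_apply, h1, h1', add_smul], fun y => ?_⟩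
        rw [LinearMap.add_apply, LinearMap.add_apply, map_add, add_smul, ← h2 y, ← h2' y]
        abel
      smul_mem' := by
        rintro c a ⟨t, s, h1, h2⟩
        refine ⟨c • t, c • s, fun x => by rw [LinearMap.smul_apply, h1, smul_eq_mul, mul_smul], fun y => ?_⟩
        rw [LinearMap.smul_apply, LinearMap.smul_apply, map_smul, ← smul_add, h2 y, smul_eq_mul, mul_smul] }
  have hle : J.map (algebraMap C C') ≤ S.radical := by
    rw [Ideal.map_le_iff_le_comap]
    intro a ha
    obtain ⟨k, t, s, htg, hgt⟩ := GrothLib.FlatOff.exists_homotopy g h hg hgh a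
      fun q hq => hGfree q fun hJ => hq (hJ ha)
    refine ⟨k, (t.baseChange C').comp (ρ N).symm.toLinearMap,
      ((ρ N).toLinearMap.comp (s.baseChange C')).comp (ρ M).symm.toLinearMap, fun x => ?_, fun y => ?_⟩
    · show t.baseChange C' ((ρ N).symm (ρ N (g.baseChange C' x))) = _
      rw [LinearEquiv.symm_apply_apply, ← LinearMap.comp_apply, ← LinearMap.baseChange_comp,
        show t.comp g = a ^ k • LinearMap.id from LinearMap.ext htg, LinearMap.baseChange_smul,
        LinearMap.baseChange_id, LinearMap.smul_apply, LinearMap.id_apply, ← map_pow, algebraMap_smul]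
    · show ρ N (g.baseChange C' (t.baseChange C' ((ρ N).symm y))) +
        ρ N (s.baseChange C' ((ρ M).symm (ρ M (h.baseChange C' ((ρ N).symm y))))) = _
      rw [LinearEquiv.symm_apply_apply, ← map_add, ← LinearMap.comp_apply (g.baseChange C'),
        ← LinearMap.comp_apply (s.baseChange C'), ← LinearMap.baseChange_comp, ← LinearMap.baseChange_comp,
        ← LinearMap.add_apply, ← LinearMap.baseChange_add,
        show g.comp t + s.comp h = a ^ k • LinearMap.id from LinearMap.ext hgt, LinearMap.baseChange_smul,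
        LinearMap.baseChange_id, LinearMap.smul_apply, LinearMap.id_apply, ← map_pow,
        ← algebraMap_smul C' (a ^ k) ((ρ N).symm y), map_smul, LinearEquiv.apply_symm_apply]
  obtain ⟨k, t, s, h1, h2⟩ := hle ha'
  exact ⟨k, t, s, h1, h2⟩

/-- Relative `(S₂)` of the double dual at a point of a local base change is flatness of the cokernel there. -/
theorem relS2_iff_flatAt_coker {R C R' C' : Type u} [CommRing R] [IsNoetherianRing R] [IsLocalRing R] [CommRing C]
    [IsNoetherianRing C] [Algebra R C] [Module.Flat R C] [Algebra.FiniteType R C]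
    [CommRing R'] [IsNoetherianRing R'] [IsLocalRing R'] [Algebra R R'] [IsLocalHom (algebraMap R R')]
    [CommRing C'] [IsNoetherianRing C'] [Algebra C C'] [Algebra R' C'] [Algebra R C'] [IsScalarTower R C C']
    [IsScalarTower R R' C'] [Algebra.IsPushout R C R' C'] (n : PrimeSpectrum C)
    (hnm : n.asIdeal.comap (algebraMap R C) = maximalIdeal R)
    (hS2 : ∀ q : PrimeSpectrum C, LocCoh.HasSk 2 (EGA4.FibLocRing R C q.asIdeal) (EGA4.FibLocRing R C q.asIdeal))
    {F : Type u} [AddCommGroup F] [Module C F] [Module.Finite C F] (J : Ideal C)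
    (hcodim : ∀ q : PrimeSpectrum C, J ≤ q.asIdeal → (2 : WithBot ℕ∞) ≤ ringKrullDim (EGA4.FibLocRing R C q.asIdeal))
    {N M : ℕ} (g : F →ₗ[C] (Fin N → C)) (h : (Fin N → C) →ₗ[C] (Fin M → C)) (hg : Injective g)
    (hgh : Function.Exact g h)
    (hGfree : ∀ q : PrimeSpectrum C, ¬ J ≤ q.asIdeal → Module.Free (Localization.AtPrime q.asIdeal)
      (LocalizedModule q.asIdeal.primeCompl ((Fin M → C) ⧸ LinearMap.range h)))
    (q : Ideal C') [q.IsPrime] (hqn : q.comap (algebraMap C C') = n.asIdeal)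
    (hqm : q.comap (algebraMap R' C') = maximalIdeal R') :
    (FlatCA.FlatAt R' q (Module.Dual C' (Module.Dual C' (C' ⊗[C] F))) ∧
      LocCoh.HasSk 2 (EGA4.FibLocRing R' C' q)
        (EGA4.FibLocMod R' C' q (Module.Dual C' (Module.Dual C' (C' ⊗[C] F))))) ↔
    FlatCA.FlatAt R' q (C' ⊗[C] ((Fin M → C) ⧸ LinearMap.range h)) := by
  classical
  haveI : Algebra.IsPushout R R' C C' := Algebra.IsPushout.symm inferInstance
  haveI : Module.Flat R' C' := Module.Flat.isBaseChange R R' C C'
    (Algebra.IsPushout.out (R := R) (S := R') (R' := C) (S' := C'))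
  let J' : Ideal C' := J.map (algebraMap C C')
  have hD := GrothLib.FlatValCrit1.two_le_depth_fib_baseChange (R := R) (C := C) (V := R') (C' := C') J n.asIdeal hnm
    (hS2 n) hcodim q hqm hqn
  have hD2 := hasSk_fib_baseChange (R := R) (C := C) (R' := R') (C' := C') 2 n.asIdeal hnm q hqn hqm (hS2 n)
  let X := Localization.AtPrime q
  haveI : IsNoetherianRing X := IsLocalization.isNoetherianRing q.primeCompl _ inferInstance
  have hDC : ((2 : ℕ) : ℕ∞) ≤ LocCoh.idealDepth J' (C' ⊗[C] C) :=
    le_idealDepth_baseChange_of_fib (A := R) (A' := R') C J 2 fun r hr =>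
      fibLocMod_ring_depth r.asIdeal _ (by
        exact_mod_cast two_le_depth_fibLocRing r.asIdeal r.asIdeal (hS2 r) fun s hs _ => hcodim s (hr.trans hs))
  have hDX : 2 ≤ LocCoh.idealDepth (J'.map (algebraMap C' X)) X := by
    refine le_trans (by exact_mod_cast hDC) ((GrothLib.Depth.idealDepth_le_baseChange (B := X) J' (C' ⊗[C] C)).trans
      (le_of_eq ?_))
    exact GrothLib.Depth.idealDepth_eq_of_equiv _
      ((LinearEquiv.baseChange C' X _ _ (AlgebraTensorModule.rid C C' C')).trans (AlgebraTensorModule.rid C' X X))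
  let ρ : ∀ k : ℕ, C' ⊗[C] (Fin k → C) ≃ₗ[C'] (Fin k → C') := fun k => TensorProduct.piScalarRight C C' C' (Fin k)
  let g' : C' ⊗[C] F →ₗ[C'] (Fin N → C') := (ρ N).toLinearMap.comp (g.baseChange C')
  let h' : (Fin N → C') →ₗ[C'] (Fin M → C') :=
    ((ρ M).toLinearMap.comp (h.baseChange C')).comp (ρ N).symm.toLinearMap
  have hgh' : ∀ x, h' (g' x) = 0 := fun x => by
    show ρ M (h.baseChange C' ((ρ N).symm (ρ N (g.baseChange C' x)))) = 0
    rw [LinearEquiv.symm_apply_apply, ← LinearMap.comp_apply, ← LinearMap.baseChange_comp,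
      hgh.linearMap_comp_eq_zero, LinearMap.baseChange_zero, LinearMap.zero_apply, map_zero]
  let G := (Fin M → C) ⧸ LinearMap.range h
  let G' := (Fin M → C') ⧸ LinearMap.range h'
  have hπ : Surjective ((LinearMap.range h).mkQ.baseChange C') :=
    LinearMap.lTensor_surjective C' (Submodule.mkQ_surjective _)
  let π : (Fin M → C') →ₗ[C'] C' ⊗[C] G := ((LinearMap.range h).mkQ.baseChange C').comp (ρ M).symm.toLinearMap
  have hker : LinearMap.ker π = LinearMap.range h' := by
    ext z
    have hex := lTensor_exact C' (LinearMap.exact_map_mkQ_range h) (Submodule.mkQ_surjective _) ((ρ M).symm z)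
    show (LinearMap.range h).mkQ.baseChange C' ((ρ M).symm z) = 0 ↔ _
    refine Iff.trans hex ⟨?_, ?_⟩
    · rintro ⟨w, hw⟩
      refine ⟨ρ N w, ?_⟩
      show ρ M (h.baseChange C' ((ρ N).symm (ρ N w))) = z
      rw [LinearEquiv.symm_apply_apply, ← LinearEquiv.apply_symm_apply (ρ M) z]
      exact congrArg (ρ M) hw
    · rintro ⟨y, rfl⟩
      refine ⟨(ρ N).symm y, ?_⟩
      show _ = (ρ M).symm (ρ M (h.baseChange C' ((ρ N).symm y)))
      rw [LinearEquiv.symm_apply_apply]
      rfl
  let e : G' ≃ₗ[C'] C' ⊗[C] G :=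
    (Submodule.quotEquivOfEq _ _ hker.symm).trans (π.quotKerEquivOfSurjective (hπ.comp (ρ M).symm.surjective))
  have hhom : ∀ a' ∈ J', ∃ (k : ℕ) (t : (Fin N → C') →ₗ[C'] C' ⊗[C] F) (s : (Fin M → C') →ₗ[C'] (Fin N → C')),
      (∀ x, t (g' x) = a' ^ k • x) ∧ ∀ y, g' (t y) + s (h' y) = a' ^ k • y := by
    intro a' ha'
    exact exists_homotopy_baseChange g h hg hgh J hGfree (ρ := ρ) a' ha'
  have hG' : ∀ r : PrimeSpectrum C', ¬ J' ≤ r.asIdeal → ∃ (k : ℕ) (α : G' →ₗ[C'] (Fin k → C'))
      (β : (Fin k → C') →ₗ[C'] G') (s : r.asIdeal.primeCompl), ∀ x, β (α x) = (s : C') • x := by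
    intro r hr
    haveI := hGfree ⟨r.asIdeal.comap (algebraMap C C'), inferInstance⟩ fun hJ => hr (Ideal.map_le_iff_le_comap.2 hJ)
    obtain ⟨k, α, β, s, hs⟩ := GrothLib.FreeOff.exists_factor_of_free (B := C) G (r.asIdeal.comap (algebraMap C C'))
    refine ⟨k, ((ρ k).toLinearMap.comp (α.baseChange C')).comp e.toLinearMap,
      (e.symm.toLinearMap.comp (β.baseChange C')).comp (ρ k).symm.toLinearMap, ⟨algebraMap C C' s, s.2⟩, fun z => ?_⟩
    show e.symm (β.baseChange C' ((ρ k).symm (ρ k (α.baseChange C' (e z))))) = _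
    rw [LinearEquiv.symm_apply_apply, ← LinearMap.comp_apply (β.baseChange C'), ← LinearMap.baseChange_comp,
      show β.comp α = (s : C) • LinearMap.id from LinearMap.ext hs, LinearMap.baseChange_smul,
      LinearMap.baseChange_id, LinearMap.smul_apply, LinearMap.id_apply, ← algebraMap_smul C' (s : C) (e z),
      map_smul, LinearEquiv.symm_apply_apply]
  refine (flatAt_coker_iff J' q g' h' hDX hD hD2 hgh' hhom hG').trans ?_
  exact ⟨GrothLib.FlatAbove.flatAt_congr e q, GrothLib.FlatAbove.flatAt_congr e.symm q⟩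

end GrothLib.FlatOffHens1
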